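import Mathlib.RingTheory.Valuation.Discrete.IsDiscreteValuationRing
import Mathlib.Algebra.Order.BigOperators.Group.Finset
import Mathlib.Tactic.FieldSimp

/-!
Weak approximation for finitely many incomparable discrete valuations of a field
(after `Lib/FunField/Approx`, without a base field).
-/

namespace Groth.Agent.WeakApprox11

open WithZero
open scoped Multiplicative

variable {K : Type*} [Field K] {ι : Type*} (v : ι → Valuation K ℤᵐ⁰)

theorem lt_exp_iff (a : ℤᵐ⁰) (n : ℤ) : a < exp n ↔ a ≤ exp (n - 1) := by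
  induction a using WithZero.expRecOn with
  | zero => simp
  | exp m => rw [exp_lt_exp, exp_le_exp]; omega

theorem lt_one_iff_le (a : ℤᵐ⁰) : a < 1 ↔ a ≤ exp (-1) := by
  simpa using lt_exp_iff a 0

/-- The order. -/
def ord (w : Valuation K ℤᵐ⁰) (x : K) : ℤ := -log (w x)

theorem val_eq_exp (w : Valuation K ℤᵐ⁰) {x : K} (hx : x ≠ 0) : w x = exp (-ord w x) := by
  rw [ord, neg_neg, exp_log]
  simp [hx]

/-- A discrete valuation ring is contained in no other one. -/
theorem le_one_iff_of_imp {a b : Valuation K ℤᵐ⁰} (ha : Function.Surjective a) (hb : Function.Surjective b)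
    (h : ∀ x, a x ≤ 1 → b x ≤ 1) (x : K) : a x ≤ 1 ↔ b x ≤ 1 := by
  refine ⟨h x, fun hbx => ?_⟩
  obtain ⟨t, ht⟩ := ha (exp (-1))
  have ht0 : t ≠ 0 := fun e => exp_ne_zero (by rw [← ht, e, map_zero])
  have hunit : ∀ y : K, a y = 1 → b y = 1 := by
    intro y hy
    have hy0 : y ≠ 0 := fun e => by simp [e] at hy
    refine le_antisymm (h y hy.le) ?_
    have h2 : b y⁻¹ ≤ 1 := h _ (by rw [map_inv₀, hy, inv_one])
    rw [map_inv₀] at h2
    exact (inv_le_one₀ (by simp [zero_lt_iff, hy0])).1 h2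
  have key : ∀ y : K, y ≠ 0 → b y = b t ^ ord a y := by
    intro y hy
    have h1 : a (y * t ^ (-ord a y)) = 1 := by
      rw [map_mul, map_zpow₀, ht, val_eq_exp a hy, ← exp_zsmul, ← exp_add]
      simp
    have h2 := hunit _ h1
    rw [map_mul, map_zpow₀, zpow_neg] at h2
    exact (mul_inv_eq_one₀ (zpow_ne_zero _ (by simp [ht0]))).1 h2
  by_cases hx : x = 0
  · simp [hx]
  rcases eq_or_lt_of_le (h t (by rw [ht, ← exp_zero, exp_le_exp]; norm_num)) with hbt | hbt
  · exfalso
    obtain ⟨s, hs⟩ := hb (exp 1)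
    have hs0 : s ≠ 0 := fun e => exp_ne_zero (by rw [← hs, e, map_zero])
    have := key s hs0
    rw [hbt, one_zpow, hs, ← exp_zero, exp_inj] at this
    exact one_ne_zero this
  · rw [key x hx] at hbx
    have h1 : 0 ≤ ord a x := (zpow_le_one_iff_right_of_lt_one₀ (zero_lt_iff.2 (by simp [ht0])) hbt).1 hbx
    rw [val_eq_exp a hx, ← exp_zero, exp_le_exp]
    omega

variable {v} (hsurj : ∀ i, Function.Surjective (v i)) (hne : ∀ i j, i ≠ j → ∃ x, v i x ≤ 1 ∧ 1 < v j x)

include hsurj hne in
theorem exists_gt_one_lt_one (i : ι) (s : Finset ι) (hi : i ∉ s) :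
    ∃ z : K, 1 < v i z ∧ ∀ j ∈ s, v j z < 1 := by
  classical
  induction s using Finset.induction_on with
  | empty =>
    obtain ⟨t, ht⟩ := hsurj i (exp 1)
    exact ⟨t, by rw [ht, ← exp_zero, exp_lt_exp]; norm_num, by simp⟩
  | insert R s hR ih =>
    obtain ⟨z, hz, hzs⟩ := ih fun h => hi (Finset.mem_insert_of_mem h)
    have hiR : i ≠ R := fun h => hi (h ▸ Finset.mem_insert_self _ _)
    obtain ⟨a, ha, ha'⟩ := hne i R hiR
    obtain ⟨b, hb, hb'⟩ := hne R i hiR.symm
    let y := b / a
    have ha0 : a ≠ 0 := fun h => by simp [h] at ha'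
    have hy : 1 < v i y := by
      rw [map_div₀, one_lt_div₀ (by simp [zero_lt_iff, ha0])]
      exact lt_of_le_of_lt ha hb'
    have hy' : v R y < 1 := by
      rw [map_div₀, div_lt_one₀ (by simp [zero_lt_iff, ha0])]
      exact lt_of_le_of_lt hb ha'
    let r : ℕ := ∑ j ∈ s, (-ord (v j) y).toNat + 1
    have hbd : ∀ j ∈ s, ∀ w : K, v j w ≤ exp (-(r : ℤ)) → v j (w * y) < 1 := by
      intro j hj w hw
      have hy0 : y ≠ 0 := fun h => by simp [h] at hy
      have h1 : -ord (v j) y < r := by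
        have := Finset.single_le_sum (f := fun j => (-ord (v j) y).toNat) (fun _ _ => Nat.zero_le _) hj
        simp only [r]; omega
      calc v j (w * y) = v j w * v j y := map_mul _ _ _
        _ ≤ exp (-(r : ℤ)) * v j y := mul_le_mul' hw le_rfl
        _ < 1 := by
          rw [val_eq_exp (v j) hy0, ← exp_add, ← exp_zero, exp_lt_exp]; omega
    have hpow : ∀ j ∈ s, v j (z ^ r) ≤ exp (-(r : ℤ)) := by
      intro j hj
      rw [map_pow]
      refine (pow_le_pow_left₀ zero_le ((lt_one_iff_le _).1 (hzs j hj)) r).trans_eq ?_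
      rw [← exp_nsmul]; simp
    rcases le_or_gt (v R z) 1 with hzR | hzR
    · refine ⟨z ^ r * y, ?_, fun j hj => ?_⟩
      · rw [map_mul, map_pow]
        exact lt_of_lt_of_le hy (le_mul_of_one_le_left' (one_le_pow₀ hz.le))
      · rcases Finset.mem_insert.1 hj with rfl | hj
        · rw [map_mul, map_pow]
          exact lt_of_le_of_lt (mul_le_of_le_one_left' (pow_le_one₀ zero_le hzR)) hy'
        · exact hbd j hj _ (hpow j hj)
    · refine ⟨z ^ r / (1 + z ^ r) * y, ?_, fun j hj => ?_⟩
      · have : v i (1 + z ^ r) = v i (z ^ r) := by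
          refine Valuation.map_add_eq_of_lt_right _ ?_
          rw [map_one, map_pow]; exact one_lt_pow₀ hz (by simp [r])
        rw [map_mul, map_div₀, this, div_self, one_mul]
        · exact hy
        · rw [map_pow]; exact pow_ne_zero _ (ne_zero_of_lt hz)
      · rcases Finset.mem_insert.1 hj with rfl | hj
        · have : v j (1 + z ^ r) = v j (z ^ r) := by
            refine Valuation.map_add_eq_of_lt_right _ ?_
            rw [map_one, map_pow]; exact one_lt_pow₀ hzR (by simp [r])
          rw [map_mul, map_div₀, this, div_self, one_mul]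
          · exact hy'
          · rw [map_pow]; exact pow_ne_zero _ (ne_zero_of_lt hzR)
        · have : v j (1 + z ^ r) = 1 := by
            refine (Valuation.map_add_eq_of_lt_left _ ?_).trans (map_one _)
            rw [map_one, map_pow]; exact pow_lt_one₀ zero_le (hzs j hj) (by simp [r])
          refine hbd j hj _ ?_
          rw [map_div₀, this, div_one]
          exact hpow j hj

include hsurj hne in
theorem exists_near_one_near_zero (i : ι) (s : Finset ι) (hi : i ∉ s) (N : ℕ) :
    ∃ w : K, v i (w - 1) ≤ exp (-(N : ℤ)) ∧ ∀ j ∈ s, v j w ≤ exp (-(N : ℤ)) := by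
  obtain ⟨z, hz, hzs⟩ := exists_gt_one_lt_one hsurj hne i s hi
  have h1 : v i (1 + z ^ (N + 1)) = v i (z ^ (N + 1)) := by
    refine Valuation.map_add_eq_of_lt_right _ ?_
    rw [map_one, map_pow]; exact one_lt_pow₀ hz (by omega)
  have hne : (1 + z ^ (N + 1)) ≠ 0 := fun h => by
    rw [h, map_zero, map_pow] at h1
    exact pow_ne_zero _ (ne_zero_of_lt hz) h1.symm
  refine ⟨z ^ (N + 1) / (1 + z ^ (N + 1)), ?_, fun j hj => ?_⟩
  · have : z ^ (N + 1) / (1 + z ^ (N + 1)) - 1 = -(1 + z ^ (N + 1))⁻¹ := by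
      field_simp; ring
    rw [this, Valuation.map_neg, map_inv₀, h1, map_pow, exp_neg]
    refine inv_anti₀ exp_pos ?_
    have hz1 : exp (1 : ℤ) ≤ v i z := by
      have hz0 : z ≠ 0 := fun h => by simp [h] at hz
      rw [val_eq_exp (v i) hz0, ← exp_zero, exp_lt_exp] at hz
      rw [val_eq_exp (v i) hz0, exp_le_exp]; omega
    refine le_trans ?_ (pow_le_pow_left₀ zero_le hz1 _)
    rw [← exp_nsmul, exp_le_exp]; simp
  · have h2 : v j (1 + z ^ (N + 1)) = 1 := by
      refine (Valuation.map_add_eq_of_lt_left _ ?_).trans (map_one _)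
      rw [map_one, map_pow]; exact pow_lt_one₀ zero_le (hzs j hj) (by omega)
    rw [map_div₀, h2, div_one, map_pow]
    refine (pow_le_pow_left₀ zero_le ((lt_one_iff_le _).1 (hzs j hj)) _).trans ?_
    rw [← exp_nsmul, exp_le_exp]; simp

include hsurj hne in
/-- Prescribed values at finitely many valuations. -/
theorem exists_val_eq [Fintype ι] (x : ι → K) (hx : ∀ i, x i ≠ 0) : ∃ y : K, ∀ i, v i y = v i (x i) := by
  classical
  let N : ℕ := ∑ i, ∑ j, (ord (v i) (x i) + 1 - ord (v i) (x j)).toNat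
  choose w hw1 hw2 using fun i : ι =>
    exists_near_one_near_zero hsurj hne i (Finset.univ.erase i) (Finset.notMem_erase _ _) N
  refine ⟨∑ j, w j * x j, fun i => ?_⟩
  have key : ∀ j, ∀ a : K, v i a ≤ exp (-(N : ℤ)) → v i (a * x j) < v i (x i) := by
    intro j a ha
    have h1 : ord (v i) (x i) + 1 - ord (v i) (x j) ≤ N := by
      have h2 := Finset.single_le_sum (f := fun j => (ord (v i) (x i) + 1 - ord (v i) (x j)).toNat)
        (fun _ _ => Nat.zero_le _) (Finset.mem_univ j)
      have h3 := Finset.single_le_sum (f := fun i => ∑ j, (ord (v i) (x i) + 1 - ord (v i) (x j)).toNat)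
        (fun _ _ => Nat.zero_le _) (Finset.mem_univ i)
      simp only [N] at h2 h3 ⊢; omega
    rw [map_mul]
    refine lt_of_le_of_lt (mul_le_mul' ha le_rfl) ?_
    rw [val_eq_exp (v i) (hx j), val_eq_exp (v i) (hx i), ← exp_add, exp_lt_exp]; omega
  rw [← Finset.add_sum_erase _ _ (Finset.mem_univ i)]
  have : w i * x i + ∑ j ∈ Finset.univ.erase i, w j * x j
      = ((w i - 1) * x i + ∑ j ∈ Finset.univ.erase i, w j * x j) + x i := by ring
  rw [this]
  refine Valuation.map_add_eq_of_lt_right _ (Valuation.map_add_lt _ (key i _ (hw1 i)) ?_)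
  refine Valuation.map_sum_lt _ (by simpa [Valuation.ne_zero_iff] using hx i) fun j hj => ?_
  exact key j _ (hw2 j i (Finset.mem_erase.2 ⟨(Finset.ne_of_mem_erase hj).symm, Finset.mem_univ _⟩))

end Groth.Agent.WeakApprox11
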